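import Cfsg.Agent.Lib.HallHigmanCritical.Norms

/-!
The critical bound of Hall and Higman: an operator of order `p ^ e` inducing an automorphism that moves
every non-scalar element of an irreducible `p'`-group semiregularly has nilpotency degree at least
`p ^ e - 1`, and the dimension is then `p ^ e - 1`.
-/

namespace Cfsg.Agent.HallHigmanCritical

open Finset

/-- If `(ρ x - 1) ^ s = 0` with `s < n` minimal then `s = n - 1` is the dimension. -/
theorem critical_bound {G : Type*} [Group G] [Finite G] {K : Type*} [Field K] [IsAlgClosed K]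
    {V : Type*} [AddCommGroup V] [Module K V] [FiniteDimensional K V] [Nontrivial V]
    {p : ℕ} [Fact p.Prime] [CharP K p]
    (ρ : Representation K G V) (Q : Subgroup G) [Q.Normal] (hcardQ : (Nat.card Q : K) ≠ 0)
    (hirr' : ∀ W : Submodule K V, (∀ g : Q, W.map (ρ g) ≤ W) → W = ⊥ ∨ W = ⊤)
    (x : G) {e : ℕ} (hex : orderOf x = p ^ e) (hx1 : ρ x ≠ 1)
    (hfree : ∀ r ∈ Q, (∀ c : K, ρ r ≠ c • 1) → ∀ y ∈ Subgroup.zpowers x, y * r = r * y → y = 1)
    (s : ℕ) (hs : (ρ x - 1) ^ s = 0) (hmin : ∀ k < s, (ρ x - 1) ^ k ≠ 0) (hlt : s < p ^ e) :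
    s = p ^ e - 1 ∧ Module.finrank K V = p ^ e - 1 ∧ 2 ≤ Module.finrank K V := by
  classical
  set T := ρ x - 1 with hT
  set u := ρ x⁻¹ with hu
  set n := orderOf x with hn
  have he : n = p ^ e := hex
  rw [← he] at hlt ⊢
  have hs1 : 1 ≤ s := Nat.one_le_iff_ne_zero.2 fun h => by
    rw [h, pow_zero] at hs
    exact one_ne_zero hs
  have hTu : T * u = u * T := by
    rw [hT, hu, sub_mul, mul_sub, one_mul, mul_one, ← map_mul, ← map_mul, mul_inv_cancel,
      inv_mul_cancel]
  -- the norms
  set D : Module.End K V → Module.End K V := fun f => ρ x * f * ρ x⁻¹ - f with hDdef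
  have hD : ∀ f, D f = T * f * u - f * T * u := fun f => by
    have h1 : ρ x * ρ x⁻¹ = 1 := by rw [← map_mul, mul_inv_cancel, map_one]
    simp only [hDdef, hT, hu, sub_mul, mul_sub, one_mul, mul_one, mul_assoc, h1]
    abel
  let L : Module.End K (Module.End K V) :=
    LinearMap.mulLeft K (ρ x) ∘ₗ LinearMap.mulRight K (ρ x⁻¹)
  have hnorm : ∀ f, ∑ i ∈ range n, ρ (x ^ i) * f * ρ (x ^ i)⁻¹ = D^[n - 1] f := fun f => by
    have hL : ∀ i, (L ^ i) f = ρ (x ^ i) * f * ρ (x ^ i)⁻¹ := by
      intro i
      induction i with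
      | zero => simp
      | succ i ih =>
        rw [pow_succ' L, Module.End.mul_apply, ih, pow_succ' x i, mul_inv_rev, map_mul ρ, map_mul ρ]
        simp [L, mul_assoc]
    have hL' : (L - 1) ^ (n - 1) = ∑ i ∈ range n, L ^ i := by
      rw [he]
      exact HallHigman.sub_one_pow_eq_sum (p := p) L e
    have h := LinearMap.congr_fun hL' f
    rw [Module.End.pow_apply, LinearMap.sum_apply] at h
    have hLD : ⇑(L - 1) = D := funext fun y => by simp [L, hDdef, mul_assoc]
    rw [hLD] at h
    rw [h]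
    exact Finset.sum_congr rfl fun i _ => (hL i).symm
  have hlow := pow_sub_one_lowers hs hTu D hD (n - 1)
  -- endomorphisms commuting with `T` act as scalars on `ker T`
  have hscal : ∀ g : Module.End K V, T * g = g * T → ∃ (c : K) (f : Module.End K V),
      g = c • 1 + D^[n - 1] f ∧ ∀ w, T w = 0 → g w = c • w := by
    intro g hg
    obtain ⟨c, f, hcf⟩ := exists_scalar_add_norm ρ Q hcardQ hirr' x hfree g (by
      rw [hT, sub_mul, mul_sub, one_mul, mul_one] at hg
      exact sub_left_injective hg)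
    rw [← hn, hnorm f] at hcf
    refine ⟨c, f, hcf, fun w hw => ?_⟩
    have h0 := hlow f 1 0 w (by rwa [pow_one]) (by omega)
    rw [pow_zero, Module.End.one_apply] at h0
    rw [hcf, LinearMap.add_apply, h0, add_zero, LinearMap.smul_apply, Module.End.one_apply]
  have hs2 : 2 ≤ s := by
    by_contra h
    obtain rfl : s = 1 := by omega
    rw [pow_one, sub_eq_zero] at hs
    exact hx1 hs
  obtain ⟨t, rfl⟩ : ∃ t, s = t + 1 := ⟨s - 1, by omega⟩
  obtain ⟨v0, hv0⟩ : ∃ v, (T ^ t) v ≠ 0 := by
    by_contra h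
    push Not at h
    exact hmin t (by omega) (LinearMap.ext fun v => by simpa [hT] using h v)
  set w0 := (T ^ t) v0 with hw0
  have hTw0 : T w0 = 0 := by
    rw [hw0, ← Module.End.mul_apply, ← pow_succ', hs, LinearMap.zero_apply]
  obtain ⟨φ, hφ⟩ : ∃ φ : Module.Dual K V, φ w0 = 1 := by
    obtain ⟨φ, hφ⟩ : ∃ φ : Module.Dual K V, φ w0 ≠ 0 := by
      by_contra h
      push Not at h
      exact hv0 ((Module.forall_dual_apply_eq_zero_iff K w0).1 h)
    exact ⟨(φ w0)⁻¹ • φ, by simp [hφ]⟩
  let P : Module.End K V :=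
    ∑ i ∈ range (t + 1), (φ ∘ₗ T ^ (t - i)).smulRight ((T ^ i) v0)
  have hP : ∀ w, P w = ∑ i ∈ range (t + 1), φ ((T ^ (t - i)) w) • (T ^ i) v0 := fun w => by
    simp [P, LinearMap.sum_apply]
  have hTP : T * P = P * T := by
    ext w
    rw [Module.End.mul_apply, Module.End.mul_apply, hP, hP, map_sum, Finset.sum_range_succ,
      Finset.sum_range_succ' (fun i => φ ((T ^ (t - i)) (T w)) • (T ^ i) v0)]
    have h0 : (T ^ (t - 0)) (T w) = 0 := by
      rw [Nat.sub_zero, ← Module.End.mul_apply, ← pow_succ, hs, LinearMap.zero_apply]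
    rw [h0, map_zero φ, zero_smul, map_smul, ← hw0, hTw0, smul_zero]
    congr 1
    refine Finset.sum_congr rfl fun i hi => ?_
    rw [Finset.mem_range] at hi
    rw [map_smul, ← Module.End.mul_apply, ← pow_succ', ← Module.End.mul_apply (T ^ (t - (i + 1))),
      ← pow_succ, show t - (i + 1) + 1 = t - i by omega]
  have hPker : ∀ w, T w = 0 → P w = φ w • w0 := by
    intro w hw
    rw [hP, Finset.sum_eq_single t]
    · rw [Nat.sub_self, pow_zero, Module.End.one_apply]
    · intro i hi hit
      rw [Finset.mem_range] at hi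
      obtain ⟨d, hd⟩ : ∃ d, t - i = d + 1 := ⟨t - i - 1, by omega⟩
      rw [hd, pow_succ, Module.End.mul_apply, hw, map_zero, map_zero, zero_smul]
    · simp
  have hline : ∀ w, T w = 0 → w = φ w • w0 := by
    obtain ⟨c, -, -, hc⟩ := hscal P hTP
    have h1 := hc w0 hTw0
    rw [hPker w0 hTw0, hφ, one_smul] at h1
    intro w hw
    have h2 := hc w hw
    rw [hPker w hw] at h2
    rcases eq_or_ne c 1 with rfl | hc1
    · rw [h2, one_smul]
    · exact absurd (smul_left_injective K hv0 (show (1 : K) • w0 = c • w0 by rw [one_smul]; exact h1))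
        (Ne.symm hc1)
  -- `V` is cyclic for `T`
  set U := Submodule.span K (Set.range fun i : Fin (t + 1) => (T ^ (i : ℕ)) v0) with hU
  have hUall : ∀ k ≤ t + 1, ∀ w, (T ^ k) w = 0 → w ∈ U := by
    intro k
    induction k with
    | zero =>
      intro _ w hw
      rw [pow_zero, Module.End.one_apply] at hw
      rw [hw]
      exact zero_mem _
    | succ k ih =>
      intro hk w hw
      have h1 := hline ((T ^ k) w) (by rwa [← Module.End.mul_apply, ← pow_succ'])
      set c := φ ((T ^ k) w)
      have h2 := ih (by omega) (w - c • (T ^ (t - k)) v0) (by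
        rw [map_sub, map_smul, ← Module.End.mul_apply, ← pow_add,
          show k + (t - k) = t by omega, ← hw0, ← h1, sub_self])
      have h3 : c • (T ^ (t - k)) v0 ∈ U := Submodule.smul_mem _ _
        (Submodule.subset_span ⟨⟨t - k, by omega⟩, rfl⟩)
      simpa using add_mem h2 h3
  have hUtop : U = ⊤ := eq_top_iff.2 fun w _ => hUall (t + 1) le_rfl w (by rw [hs]; rfl)
  have hdim_le : Module.finrank K V ≤ t + 1 := by
    have := finrank_range_le_card (R := K) (b := fun i : Fin (t + 1) => (T ^ (i : ℕ)) v0)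
    rwa [Set.finrank, ← hU, hUtop, finrank_top, Fintype.card_fin] at this
  have hdim_ge : t + 1 ≤ Module.finrank K V := by
    by_contra h
    refine hmin (Module.finrank K V) (by omega) (LinearMap.ext fun w => ?_)
    exact Module.End.ker_pow_le_ker_pow_finrank T (t + 1) (by
      rw [LinearMap.mem_ker, hs, LinearMap.zero_apply] : w ∈ LinearMap.ker (T ^ (t + 1)))
  -- `T` lowers the filtration by only one step
  have hns : n - 1 ≤ t + 1 := by
    by_contra h
    obtain ⟨c, f, hcf, hc⟩ := hscal T rfl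
    have hc0 : c = 0 := by
      have := hc w0 hTw0
      rw [hTw0] at this
      exact (smul_eq_zero.1 this.symm).resolve_right hv0
    have h0 := hlow f (t + 1) (t - 1) v0 (by rw [hs]; rfl) (by omega)
    rw [hc0, zero_smul, zero_add] at hcf
    rw [← hcf, ← Module.End.mul_apply, ← pow_succ, show t - 1 + 1 = t by omega] at h0
    exact hv0 h0
  omega

end Cfsg.Agent.HallHigmanCritical
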