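import Mathlib

/-!
An irreducible representation of a finite `q`-group over an algebraically closed field has dimension
a power of `q`.
-/

namespace Cfsg.Agent.HallHigmanCritical

/-- Schur's lemma in operator form. -/
theorem exists_scalar_of_commute {K V ι : Type*} [Field K] [IsAlgClosed K] [AddCommGroup V] [Module K V]
    [FiniteDimensional K V] [Nontrivial V] (T : ι → Module.End K V)
    (hirr : ∀ W : Submodule K V, (∀ i, W.map (T i) ≤ W) → W = ⊥ ∨ W = ⊤)
    (g : Module.End K V) (hg : ∀ i, T i * g = g * T i) : ∃ c : K, g = c • 1 := by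
  obtain ⟨c, hc⟩ := Module.End.exists_eigenvalue g
  refine ⟨c, ?_⟩
  have h := hirr (Module.End.eigenspace g c) fun i => by
    rintro _ ⟨w, hw, rfl⟩
    rw [SetLike.mem_coe, Module.End.mem_eigenspace_iff] at hw
    rw [Module.End.mem_eigenspace_iff, ← Module.End.mul_apply, ← hg, Module.End.mul_apply, hw,
      map_smul]
  rcases h with h | h
  · exact absurd h hc
  ext v
  have hv : v ∈ Module.End.eigenspace g c := h ▸ Submodule.mem_top
  simpa [Module.End.mem_eigenspace_iff] using hv

universe u v

/-- The dimension of an irreducible representation of a finite `q`-group is a power of `q`. -/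
theorem exists_finrank_eq_pow {K : Type*} [Field K] [IsAlgClosed K] {q : ℕ} [hq : Fact q.Prime]
    (n : ℕ) : ∀ {Q : Type u} [Group Q] [Finite Q], Nat.card Q ≤ n → IsPGroup q Q →
      ∀ {V : Type v} [AddCommGroup V] [Module K V] [FiniteDimensional K V] [Nontrivial V]
      (ρ : Representation K Q V),
      (∀ W : Submodule K V, (∀ g, W.map (ρ g) ≤ W) → W = ⊥ ∨ W = ⊤) →
      ∃ b, Module.finrank K V = q ^ b := by
  induction n with
  | zero => intro Q _ _ h; exact absurd h (by have := Nat.card_pos (α := Q); omega)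
  | succ n ih =>
    intro Q _ _ hn hQ V _ _ _ _ ρ hirr
    classical
    let N : Subgroup Q :=
      { carrier := {g | ∃ c : K, ρ g = c • 1}
        one_mem' := ⟨1, by simp⟩
        mul_mem' := by
          rintro a b ⟨c, hc⟩ ⟨d, hd⟩
          exact ⟨c * d, by rw [map_mul, hc, hd]; simp [smul_smul, mul_comm]⟩
        inv_mem' := by
          rintro a ⟨c, hc⟩
          have h1 : ρ a⁻¹ * ρ a = 1 := by rw [← map_mul, inv_mul_cancel, map_one]
          rw [hc, mul_smul_comm, mul_one] at h1
          have hc0 : c ≠ 0 := fun h0 => by simp [h0] at h1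
          refine ⟨c⁻¹, ?_⟩
          rw [← h1, smul_smul, inv_mul_cancel₀ hc0, one_smul] }
    have hNn : N.Normal := ⟨fun a ⟨c, hc⟩ g => ⟨c, by
      rw [map_mul, map_mul, hc, mul_smul_comm, mul_one, smul_mul_assoc, ← map_mul, mul_inv_cancel,
        map_one]⟩⟩
    by_cases hN : N = ⊤
    · refine ⟨0, ?_⟩
      obtain ⟨v, hv⟩ := exists_ne (0 : V)
      have hW := hirr (K ∙ v) fun g => by
        obtain ⟨c, hc⟩ := (hN ▸ Subgroup.mem_top g : g ∈ N)
        rintro _ ⟨w, hw, rfl⟩
        rw [hc]
        simpa using Submodule.smul_mem _ c hw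
      rcases hW with h | h
      · exact absurd (by simpa using h) hv
      rw [← finrank_top (R := K) (M := V), ← h, finrank_span_singleton hv, pow_zero]
    -- an element central modulo the scalars
    have : Nontrivial (Q ⧸ N) := QuotientGroup.nontrivial_iff.2 hN
    have := (hQ.to_quotient N).center_nontrivial
    obtain ⟨⟨z, hz⟩, hz1⟩ := exists_ne (1 : Subgroup.center (Q ⧸ N))
    obtain ⟨a, rfl⟩ := QuotientGroup.mk_surjective z
    have ha : a ∉ N := fun h => hz1 (Subtype.ext ((QuotientGroup.eq_one_iff a).2 h))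
    have hcen : ∀ g : Q, a * g * a⁻¹ * g⁻¹ ∈ N := fun g => by
      rw [← QuotientGroup.eq_one_iff]
      have := Subgroup.mem_center_iff.1 hz (g : Q ⧸ N)
      simp only [QuotientGroup.mk_mul, QuotientGroup.mk_inv]
      rw [← this]
      group
    have hlex : ∀ g : Q, ∃ c : Kˣ, ρ a * ρ g = (c : K) • (ρ g * ρ a) := fun g => by
      obtain ⟨c, hc⟩ := hcen g
      have e : ρ a * ρ g = c • (ρ g * ρ a) := by
        rw [← map_mul, ← map_mul, show a * g = a * g * a⁻¹ * g⁻¹ * (g * a) by group, map_mul, hc,
          smul_mul_assoc, one_mul]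
      have hc0 : c ≠ 0 := fun h0 => by
        have h1 : ρ (a * g) * ρ (a * g)⁻¹ = 1 := by rw [← map_mul, mul_inv_cancel, map_one]
        rw [map_mul ρ a g, e, h0] at h1
        simp at h1
      exact ⟨Units.mk0 c hc0, e⟩
    choose lam hlam using hlex
    have hne0 : ∀ g h : Q, ρ g * ρ h ≠ 0 := fun g h h0 => by
      have h1 : ρ (g * h) * ρ (g * h)⁻¹ = 1 := by rw [← map_mul, mul_inv_cancel, map_one]
      rw [map_mul ρ g h, h0, zero_mul] at h1
      exact zero_ne_one h1
    let lamH : Q →* Kˣ :=
      MonoidHom.mk' lam fun g h => by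
        have e : ρ a * ρ (g * h) = ((lam g : K) * (lam h : K)) • (ρ (g * h) * ρ a) := by
          rw [map_mul, ← mul_assoc, hlam g, smul_mul_assoc, mul_assoc, hlam h, mul_smul_comm,
            smul_smul, mul_assoc]
        rw [hlam (g * h)] at e
        exact Units.ext (smul_left_injective K (hne0 _ _) e)
    set H := lamH.ker
    have hH : H ≠ ⊤ := fun h => ha (exists_scalar_of_commute ρ hirr (ρ a) fun g => by
      have hgH : g ∈ H := by rw [h]; exact Subgroup.mem_top g
      have hg : lam g = 1 := hgH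
      rw [hlam g, hg, Units.val_one, one_smul])
    obtain ⟨μ, hμ⟩ := Module.End.exists_eigenvalue (ρ a)
    have hμ0 : μ ≠ 0 := by
      rintro rfl
      obtain ⟨w, hw⟩ := hμ.exists_hasEigenvector
      have h1 : ρ a⁻¹ * ρ a = 1 := by rw [← map_mul, inv_mul_cancel, map_one]
      have := LinearMap.congr_fun h1 w
      rw [Module.End.mul_apply, hw.apply_eq_smul, zero_smul, map_zero] at this
      exact hw.2 this.symm
    set E := Module.End.eigenspace (ρ a) μ with hE
    have hmove : ∀ g, ∀ e ∈ E, ρ g e ∈ Module.End.eigenspace (ρ a) ((lam g : K) * μ) := by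
      intro g e he
      rw [hE, Module.End.mem_eigenspace_iff] at he
      rw [Module.End.mem_eigenspace_iff, ← Module.End.mul_apply, hlam g, LinearMap.smul_apply,
        Module.End.mul_apply, he, map_smul, smul_smul]
    let _ : Fintype (Q ⧸ H) := Fintype.ofFinite _
    -- translates of an invariant subspace of `E`
    have hind : ∀ W : Submodule K V, W ≤ E → ∀ f : Q ⧸ H → W,
        ∑ c, ρ c.out (f c : V) = 0 → f = 0 := by
      intro W hW f hf
      have hinj : Function.Injective fun c : Q ⧸ H => (lam c.out : K) * μ := by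
        intro c d h
        have e : lamH c.out = lamH d.out := Units.ext (mul_right_cancel₀ hμ0 h)
        rw [← QuotientGroup.out_eq' c, ← QuotientGroup.out_eq' d, QuotientGroup.eq,
          MonoidHom.mem_ker, map_mul, map_inv, e, inv_mul_cancel]
      have hindep := (Module.End.eigenspaces_iSupIndep (ρ a)).comp hinj
      have := ((iSupIndep_iff_finset_sum_eq_zero_imp_eq_zero _).1 hindep) Finset.univ
        (fun c => ρ c.out (f c : V)) (fun c _ => hmove _ _ (hW (f c).2)) hf
      funext c
      have h1 := congrArg (ρ c.out⁻¹) (this c (Finset.mem_univ c))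
      rw [← Module.End.mul_apply, ← map_mul, inv_mul_cancel, map_one, map_zero] at h1
      exact Subtype.ext (by simpa using h1)
    let Φ : ∀ W : Submodule K V, ((Q ⧸ H) → W) →ₗ[K] V := fun W =>
      ∑ c, (ρ c.out ∘ₗ W.subtype) ∘ₗ LinearMap.proj c
    have hΦ : ∀ (W : Submodule K V) (f : Q ⧸ H → W), Φ W f = ∑ c, ρ c.out (f c : V) := fun W f => by
      simp [Φ, LinearMap.sum_apply]
    have hbij : ∀ W : Submodule K V, W ≤ E → W ≠ ⊥ → (∀ h ∈ H, ∀ w ∈ W, ρ h w ∈ W) →
        Function.Bijective (Φ W) := by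
      intro W hW hW0 hinv
      refine ⟨(injective_iff_map_eq_zero _).2 fun f hf => hind W hW f (by rwa [← hΦ]), ?_⟩
      have hrange : ∀ (c : Q ⧸ H) (w : W), ρ c.out (w : V) ∈ LinearMap.range (Φ W) := fun c w =>
        ⟨Pi.single c w, by
          rw [hΦ, Finset.sum_eq_single c (fun d _ hd => by simp [hd])
            (fun h => absurd (Finset.mem_univ c) h), Pi.single_eq_same]⟩
      have hR := hirr (LinearMap.range (Φ W)) fun g => by
        rintro _ ⟨_, ⟨f, rfl⟩, rfl⟩
        rw [hΦ, map_sum]
        refine Submodule.sum_mem _ fun c _ => ?_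
        set d := (QuotientGroup.mk (g * c.out) : Q ⧸ H) with hd
        have hk : d.out⁻¹ * (g * c.out) ∈ H :=
          QuotientGroup.eq.1 (by rw [QuotientGroup.out_eq'])
        have := hrange d ⟨ρ (d.out⁻¹ * (g * c.out)) (f c : V), hinv _ hk _ (f c).2⟩
        rwa [← Module.End.mul_apply, ← map_mul, mul_inv_cancel_left, map_mul,
          Module.End.mul_apply] at this
      rcases hR with h | h
      · obtain ⟨w, hw, hw1⟩ := Submodule.exists_mem_ne_zero_of_ne_bot hW0
        have h1 := hrange (QuotientGroup.mk 1) ⟨w, hw⟩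
        rw [h, Submodule.mem_bot] at h1
        have h2 := congrArg (ρ (QuotientGroup.mk 1 : Q ⧸ H).out⁻¹) h1
        rw [← Module.End.mul_apply, ← map_mul, inv_mul_cancel, map_one, map_zero] at h2
        exact absurd (by simpa using h2) hw1
      · exact LinearMap.range_eq_top.1 h
    have hEinv : ∀ h ∈ H, ∀ w ∈ E, ρ h w ∈ E := fun h hh w hw => by
      have := hmove h w hw
      rwa [show lam h = 1 from hh, Units.val_one, one_mul] at this
    have hrank : ∀ W : Submodule K V, W ≤ E → W ≠ ⊥ → (∀ h ∈ H, ∀ w ∈ W, ρ h w ∈ W) →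
        Module.finrank K V = H.index * Module.finrank K W := fun W h1 h2 h3 => by
      rw [← (LinearEquiv.ofBijective (Φ W) (hbij W h1 h2 h3)).finrank_eq, Module.finrank_pi_fintype,
        Finset.sum_const, Finset.card_univ, smul_eq_mul, Subgroup.index, Nat.card_eq_fintype_card]
    have hE0 : E ≠ ⊥ := hμ
    let ρE : Representation K H E :=
      { toFun := fun h => (ρ (h : Q)).restrict (hEinv _ h.2)
        map_one' := by ext w; simp
        map_mul' := fun x y => by ext w; simp }
    have : Nontrivial E := Submodule.nontrivial_iff_ne_bot.2 hE0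
    have hlt : Nat.card H < Nat.card Q := by
      rcases (Subgroup.card_le_card_group H).lt_or_eq with h | h
      · exact h
      · exact absurd (Subgroup.eq_top_of_card_eq H h) hH
    obtain ⟨b, hb⟩ := ih (Q := H) (by omega) (hQ.to_subgroup H) ρE fun W hW => by
      by_cases h0 : W = ⊥
      · exact Or.inl h0
      right
      have h0' : W.map E.subtype ≠ ⊥ := fun h => h0 (by
        refine (Submodule.eq_bot_iff _).2 fun w hw => Subtype.ext ?_
        exact (Submodule.eq_bot_iff _).1 h _ ⟨w, hw, rfl⟩)
      have hinvW : ∀ h ∈ H, ∀ w ∈ W.map E.subtype, ρ h w ∈ W.map E.subtype := by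
        rintro h hh _ ⟨w, hw, rfl⟩
        exact ⟨ρE ⟨h, hh⟩ w, hW ⟨h, hh⟩ ⟨w, hw, rfl⟩, rfl⟩
      have e1 := hrank _ (Submodule.map_subtype_le E W) h0' hinvW
      rw [hrank E le_rfl hE0 hEinv, Submodule.finrank_map_subtype_eq] at e1
      exact Submodule.eq_top_of_finrank_eq
        (Nat.eq_of_mul_eq_mul_left (Nat.pos_of_ne_zero H.index_ne_zero_of_finite) e1).symm
    obtain ⟨a', ha'⟩ := hQ.index H
    exact ⟨a' + b, by rw [hrank E le_rfl hE0 hEinv, ha', hb, pow_add]⟩

end Cfsg.Agent.HallHigmanCritical
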