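import Cfsg.Agent.Lib.HallHigman.TheoremB
import Cfsg.Agent.Lib.HallHigmanCritical.PGroupDim

/-!
The critical case of Hall–Higman: the twirl of an irreducible representation, the invariant
endomorphisms as scalars plus norms, and the nilpotency bookkeeping of the norms.
-/

namespace Cfsg.Agent.HallHigmanCritical

open Finset

variable {G : Type*} [Group G] {K : Type*} [Field K] {V : Type*} [AddCommGroup V] [Module K V]

theorem trace_smulRight_eq [FiniteDimensional K V] (φ : Module.Dual K V) (u : V) :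
    LinearMap.trace K V (φ.smulRight u) = φ u := by
  rw [show φ.smulRight u = dualTensorHom K V V (TensorProduct.tmul K φ u) from
    LinearMap.ext fun v => by simp, LinearMap.trace_eq_contract_apply, contractLeft_apply]

/-- The inversion formula on the finite set of elements of a subgroup. -/
theorem exists_twirl [IsAlgClosed K] [FiniteDimensional K V] [Nontrivial V] [DecidableEq G]
    (ρ : Representation K G V) (Q : Subgroup G) (S : Finset G) (hS : ∀ g, g ∈ S ↔ g ∈ Q)
    (hcard : (S.card : K) ≠ 0)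
    (hirr : ∀ W : Submodule K V, (∀ g : Q, W.map (ρ g) ≤ W) → W = ⊥ ∨ W = ⊤) :
    ∃ c : K, c ≠ 0 ∧ ∀ g : Module.End K V,
      ∑ r ∈ S, LinearMap.trace K V (ρ r⁻¹ * g) • ρ r = c • g := by
  let A : Module.Dual K V → V → Module.End K V := fun φ u =>
    ∑ r ∈ S, ρ r * φ.smulRight u * ρ r⁻¹
  have hA : ∀ φ u, ∃ c : K, A φ u = c • 1 ∧ c * (Module.finrank K V : K) = S.card * φ u := by
    intro φ u
    obtain ⟨c, hc⟩ := exists_scalar_of_commute (fun g : Q => ρ g) hirr (A φ u) fun h => by
      simp only [A, Finset.mul_sum, Finset.sum_mul]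
      refine Finset.sum_nbij' (fun r => (h : G) * r) (fun r => (h : G)⁻¹ * r) ?_ ?_ ?_ ?_ ?_
      · exact fun r hr => (hS _).2 (mul_mem h.2 ((hS _).1 hr))
      · exact fun r hr => (hS _).2 (mul_mem (inv_mem h.2) ((hS _).1 hr))
      · intro r _; simp
      · intro r _; simp
      · intro r _
        rw [mul_inv_rev, map_mul, map_mul]
        simp only [mul_assoc]
        rw [← map_mul ρ (h : G)⁻¹ h, inv_mul_cancel, map_one, mul_one]
    refine ⟨c, hc, ?_⟩
    have h := congrArg (LinearMap.trace K V) hc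
    rw [map_smul, LinearMap.trace_one, smul_eq_mul] at h
    rw [← h]
    simp only [A, map_sum]
    rw [Finset.sum_congr rfl (g := fun _ => φ u) fun r _ => ?_, Finset.sum_const, nsmul_eq_mul]
    rw [LinearMap.trace_mul_comm, ← mul_assoc, ← map_mul, inv_mul_cancel, map_one, one_mul,
      trace_smulRight_eq]
  obtain ⟨u, hu⟩ := exists_ne (0 : V)
  obtain ⟨φ, hφ⟩ : ∃ φ : Module.Dual K V, φ u ≠ 0 := by
    by_contra h
    push Not at h
    exact hu ((Module.forall_dual_apply_eq_zero_iff K u).1 h)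
  have hm : (Module.finrank K V : K) ≠ 0 := by
    obtain ⟨c, -, hc⟩ := hA φ u
    intro h
    rw [h, mul_zero] at hc
    exact mul_ne_zero hcard hφ hc.symm
  refine ⟨S.card / (Module.finrank K V : K), div_ne_zero hcard hm, fun g => ?_⟩
  have hone : ∀ (ψ : Module.Dual K V) (w : V), ∑ r ∈ S, LinearMap.trace K V (ρ r⁻¹ * ψ.smulRight w) • ρ r =
      ((S.card : K) / (Module.finrank K V : K)) • ψ.smulRight w := by
    intro ψ w
    ext v
    obtain ⟨c, hc, hc'⟩ := hA ψ v
    have hv := LinearMap.congr_fun hc w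
    simp only [A, LinearMap.sum_apply, Module.End.mul_apply, LinearMap.smulRight_apply, map_smul,
      LinearMap.smul_apply, Module.End.one_apply] at hv
    rw [show c = ψ v * ((S.card : K) / (Module.finrank K V : K)) by field_simp; rw [hc']; ring] at hv
    simp only [LinearMap.sum_apply, LinearMap.smul_apply, LinearMap.smulRight_apply, smul_smul]
    rw [mul_comm] at hv
    rw [← hv]
    refine Finset.sum_congr rfl fun r _ => ?_
    rw [show ρ r⁻¹ * ψ.smulRight w = ψ.smulRight (ρ r⁻¹ w) from LinearMap.ext fun z => by simp,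
      trace_smulRight_eq]
  let b := Module.finBasis K V
  have hg : g = ∑ i, (b.coord i).smulRight (g (b i)) := LinearMap.ext fun v => by
    simp only [LinearMap.sum_apply, LinearMap.smulRight_apply, Module.Basis.coord_apply, ← map_smul,
      ← map_sum, b.sum_repr]
  rw [hg]
  simp only [Finset.mul_sum, map_sum, Finset.sum_smul, Finset.smul_sum]
  rw [Finset.sum_comm]
  exact Finset.sum_congr rfl fun i _ => hone _ _

/-- An endomorphism commuting with `ρ x` is a scalar plus a norm. -/
theorem exists_scalar_add_norm [IsAlgClosed K] [FiniteDimensional K V] [Nontrivial V] [Finite G]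
    (ρ : Representation K G V) (Q : Subgroup G) [Q.Normal] (hcard : (Nat.card Q : K) ≠ 0)
    (hirr : ∀ W : Submodule K V, (∀ g : Q, W.map (ρ g) ≤ W) → W = ⊥ ∨ W = ⊤) (x : G)
    (hfree : ∀ r ∈ Q, (∀ c : K, ρ r ≠ c • 1) → ∀ y ∈ Subgroup.zpowers x, y * r = r * y → y = 1)
    (g : Module.End K V) (hg : ρ x * g = g * ρ x) :
    ∃ (c : K) (f : Module.End K V),
      g = c • 1 + ∑ i ∈ range (orderOf x), ρ (x ^ i) * f * ρ (x ^ i)⁻¹ := by
  classical
  let _ := Fintype.ofFinite G
  set S := Finset.univ.filter (· ∈ Q) with hSdef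
  have hS : ∀ r, r ∈ S ↔ r ∈ Q := fun r => by simp [hSdef]
  obtain ⟨c0, hc0, htw⟩ := exists_twirl ρ Q S hS (by
    rw [Nat.card_eq_fintype_card, ← Fintype.card_of_subtype S hS] at *
    exact hcard) hirr
  set a : G → K := fun r => c0⁻¹ * LinearMap.trace K V (ρ r⁻¹ * g) with ha
  have hag : g = ∑ r ∈ S, a r • ρ r := by
    simp only [ha, ← smul_smul, ← Finset.smul_sum, htw]
    rw [smul_smul, inv_mul_cancel₀ hc0, one_smul]
  have hinv : ∀ r, a (x * r * x⁻¹) = a r := fun r => by
    simp only [ha]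
    congr 1
    rw [show (x * r * x⁻¹)⁻¹ = x * (r⁻¹ * x⁻¹) by group, map_mul ρ, map_mul ρ, mul_assoc,
      LinearMap.trace_mul_comm, mul_assoc, mul_assoc, ← hg, ← mul_assoc (ρ x⁻¹), ← map_mul ρ,
      inv_mul_cancel, map_one ρ, one_mul]
  have hinvi : ∀ i r, a (x ^ i * r * (x ^ i)⁻¹) = a r := by
    intro i
    induction i with
    | zero => intro r; simp
    | succ i ih =>
      intro r
      rw [show x ^ (i + 1) * r * (x ^ (i + 1))⁻¹ = x * (x ^ i * r * (x ^ i)⁻¹) * x⁻¹ by
        rw [pow_succ']; group, hinv, ih]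
  let Nrm : Module.End K V → Module.End K V := fun f =>
    ∑ i ∈ range (orderOf x), ρ (x ^ i) * f * ρ (x ^ i)⁻¹
  suffices h : ∀ k, ∀ T : Finset G, T.card ≤ k → T ⊆ S → (∀ r ∈ T, x * r * x⁻¹ ∈ T) →
      ∃ c f, ∑ r ∈ T, a r • ρ r = c • 1 + Nrm f by
    obtain ⟨c, f, h'⟩ := h S.card S le_rfl subset_rfl fun r hr =>
      (hS _).2 (‹Q.Normal›.conj_mem r ((hS _).1 hr) x)
    exact ⟨c, f, hag.trans h'⟩
  have hzero : (0 : Module.End K V) = (0 : K) • 1 + Nrm 0 := by simp [Nrm]
  have hadd : ∀ (c c' : K) (f f' : Module.End K V), c • (1 : Module.End K V) + Nrm f + (c' • 1 + Nrm f') =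
      (c + c') • 1 + Nrm (f + f') := fun c c' f f' => by
    simp only [Nrm, mul_add, add_mul, Finset.sum_add_distrib]
    rw [show (c + c') • (1 : Module.End K V) = c • 1 + c' • 1 from add_smul c c' 1]
    abel
  intro k
  induction k with
  | zero =>
    intro T hT _ _
    rw [Finset.card_eq_zero.1 (Nat.le_zero.1 hT)]
    exact ⟨0, 0, by rw [Finset.sum_empty]; exact hzero⟩
  | succ k ih =>
    intro T hT hTS hTx
    obtain rfl | ⟨r, hr⟩ := T.eq_empty_or_nonempty
    · exact ⟨0, 0, by rw [Finset.sum_empty]; exact hzero⟩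
    have hpow : ∀ i, ∀ s ∈ T, x ^ i * s * (x ^ i)⁻¹ ∈ T := by
      intro i
      induction i with
      | zero => intro s hs; simpa using hs
      | succ i ih' =>
        intro s hs
        rw [show x ^ (i + 1) * s * (x ^ (i + 1))⁻¹ = x * (x ^ i * s * (x ^ i)⁻¹) * x⁻¹ by
          rw [pow_succ']; group]
        exact hTx _ (ih' s hs)
    set O := (range (orderOf x)).image fun i => x ^ i * r * (x ^ i)⁻¹ with hO
    have hmemO : ∀ i, x ^ i * r * (x ^ i)⁻¹ ∈ O := fun i => Finset.mem_image.2
      ⟨i % orderOf x, Finset.mem_range.2 (Nat.mod_lt _ (orderOf_pos x)), by rw [pow_mod_orderOf]⟩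
    have hOT : O ⊆ T := fun y hy => by
      obtain ⟨i, -, rfl⟩ := Finset.mem_image.1 hy
      exact hpow i r hr
    have hrO : r ∈ O := by simpa using hmemO 0
    obtain ⟨c, f, hcf⟩ := ih (T \ O)
      (by
        have := Finset.card_lt_card (Finset.sdiff_ssubset hOT ⟨r, hrO⟩)
        omega)
      (Finset.sdiff_subset.trans hTS) fun s hs => by
        rw [Finset.mem_sdiff] at hs ⊢
        refine ⟨hTx s hs.1, fun hso => hs.2 ?_⟩
        obtain ⟨i, -, hi⟩ := Finset.mem_image.1 hso
        have : s = x ^ (orderOf x - 1 + i) * r * (x ^ (orderOf x - 1 + i))⁻¹ := by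
          have hx : x⁻¹ = x ^ (orderOf x - 1) := inv_eq_of_mul_eq_one_right (by
            rw [← pow_succ', Nat.sub_add_cancel (orderOf_pos x), pow_orderOf_eq_one])
          rw [pow_add, ← hx, show s = x⁻¹ * (x * s * x⁻¹) * x by group, ← hi]
          group
        rw [this]
        exact hmemO _
    obtain ⟨c', f', hcf'⟩ : ∃ c f, ∑ s ∈ O, a s • ρ s = c • 1 + Nrm f := by
      by_cases hz : ∃ c : K, ρ r = c • 1
      · obtain ⟨c, hc⟩ := hz
        refine ⟨(O.card : K) * (a r * c), 0, ?_⟩
        rw [Finset.sum_congr rfl (g := fun _ => (a r * c) • (1 : Module.End K V)) fun y hy => ?_,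
          Finset.sum_const, ← Nat.cast_smul_eq_nsmul K, smul_smul]
        · simp [Nrm]
        · obtain ⟨i, -, rfl⟩ := Finset.mem_image.1 hy
          rw [hinvi, map_mul ρ, map_mul ρ, hc, mul_smul_comm, smul_mul_assoc, mul_one, ← map_mul ρ,
            mul_inv_cancel, map_one ρ, smul_smul]
      · refine ⟨0, a r • ρ r, ?_⟩
        rw [zero_smul, zero_add, hO, Finset.sum_image]
        · refine Finset.sum_congr rfl fun i _ => ?_
          rw [hinvi, map_mul, map_mul, mul_smul_comm, smul_mul_assoc]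
        · intro i hi j hj hij
          have h1 : (x ^ j)⁻¹ * x ^ i = 1 := by
            refine hfree r ((hS r).1 (hTS hr)) (not_exists.1 hz) _
              (mul_mem (inv_mem (pow_mem (Subgroup.mem_zpowers x) j))
                (pow_mem (Subgroup.mem_zpowers x) i)) ?_
            calc (x ^ j)⁻¹ * x ^ i * r = (x ^ j)⁻¹ * (x ^ i * r * (x ^ i)⁻¹) * x ^ i := by group
              _ = (x ^ j)⁻¹ * (x ^ j * r * (x ^ j)⁻¹) * x ^ i :=
                  congrArg (fun y => (x ^ j)⁻¹ * y * x ^ i) hij
              _ = r * ((x ^ j)⁻¹ * x ^ i) := by group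
          exact pow_injOn_Iio_orderOf (Finset.mem_range.1 hi) (Finset.mem_range.1 hj)
            (inv_mul_eq_one.1 h1).symm
    exact ⟨c + c', f + f', by rw [← Finset.sum_sdiff hOT, hcf, hcf', hadd]⟩

/-- The `(n - 1)`-st iterate of `f ↦ x f x⁻¹ - f` lowers the kernel filtration by at least `n - s`. -/
theorem pow_sub_one_lowers {T u : Module.End K V} {s : ℕ} (hs : T ^ s = 0) (hTu : T * u = u * T)
    (D : Module.End K V → Module.End K V) (hD : ∀ f, D f = T * f * u - f * T * u) (j : ℕ) :
    ∀ (f : Module.End K V) (k l : ℕ) (w : V), (T ^ k) w = 0 → s + k ≤ l + j + 1 →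
      (T ^ l) (D^[j] f w) = 0 := by
  induction j with
  | zero =>
    intro f k l w hw hle
    rcases Nat.eq_zero_or_pos k with rfl | hk
    · rw [pow_zero, Module.End.one_apply] at hw
      simp [hw]
    · obtain ⟨d, hd⟩ : ∃ d, l = s + d := ⟨l - s, by omega⟩
      rw [hd, pow_add, hs, zero_mul, LinearMap.zero_apply]
  | succ j ih =>
    intro f k l w hw hle
    rw [Function.iterate_succ_apply', hD, LinearMap.sub_apply, map_sub]
    simp only [Module.End.mul_apply]
    have huw : ∀ i, (T ^ i) (u w) = u ((T ^ i) w) := fun i => by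
      rw [← Module.End.mul_apply, ← Module.End.mul_apply,
        ((show Commute T u from hTu).pow_left i).eq]
    have h1 : (T ^ l) (T (D^[j] f (u w))) = 0 := by
      rw [← Module.End.mul_apply, ← pow_succ]
      exact ih f k (l + 1) (u w) (by rw [huw, hw, map_zero]) (by omega)
    have h2 : (T ^ l) (D^[j] f (T (u w))) = 0 := by
      rcases Nat.eq_zero_or_pos k with rfl | hk
      · rw [pow_zero, Module.End.one_apply] at hw
        simp [hw]
      · refine ih f (k - 1) l _ ?_ (by omega)
        rw [← Module.End.mul_apply, ← pow_succ, Nat.sub_add_cancel hk, huw, hw, map_zero]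
    rw [h1, h2, sub_zero]

end Cfsg.Agent.HallHigmanCritical
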