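import Cfsg.Agent.Lib.HallHigmanCritical.Translates
import Cfsg.Agent.Lib.HallHigmanCritical.Critical
import Cfsg.Agent.Lib.HallHigman.Linear
import Cfsg.Agent.S3736

/-!
Theorem B of Hall and Higman for every prime, over an algebraically closed field.

`exists_translate_free` splits off, from a `q`-group normalised by `x`, an irreducible piece invariant under
the first power `x ^ p ^ j` that fixes its isomorphism type, with independent translates below that power;
`exceptional_of_nilpotent` combines it with the critical bound.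
-/

namespace Cfsg.Agent.HallHigmanCritical

open Finset

variable {K : Type*} [Field K] [IsAlgClosed K] {p : ℕ} [Fact p.Prime] [CharP K p]
  {W : Type*} [AddCommGroup W] [Module K W] [FiniteDimensional K W] {X : Type*} [Group X] [Finite X]

/-- An irreducible subspace for `R`, invariant under some `x ^ p ^ j`, with independent translates. -/
theorem exists_translate_free (ψ : X →* Module.End K W) (R : Subgroup X) (hRK : (Nat.card R : K) ≠ 0)
    {x : X} {n : ℕ} (hxR : x ∈ Subgroup.normalizer (R : Set X)) (hx : x ^ p ^ n = 1)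
    {c : R} (hc : ψ (c : X) ≠ 1) :
    ∃ (j : ℕ) (U : Submodule K W), j ≤ n ∧ (∀ a : R, ∀ w ∈ U, ψ (a : X) w ∈ U) ∧
      (∀ U' ≤ U, (∀ a : R, ∀ w ∈ U', ψ (a : X) w ∈ U') → U' = ⊥ ∨ U' = U) ∧
      (∀ w ∈ U, ψ (x ^ p ^ j) w ∈ U) ∧ (∃ u ∈ U, ψ (c : X) u ≠ u) ∧
      ∀ u : ℕ → W, (∀ i, u i ∈ U) → ∑ i ∈ range (p ^ j), ψ (x ^ i) (u i) = 0 → u 0 = 0 := by
  classical
  let _ := Fintype.ofFinite R
  let π0 : Representation K R W := ψ.comp R.subtype
  obtain ⟨U0, hU0, hU0irr, u0, hu0, hu0c⟩ := exists_irreducible_moved π0 hRK (c := c) hc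
  have : Nontrivial U0 := ⟨⟨⟨u0, hu0⟩, 0, fun h => hu0c (by
    rw [show u0 = 0 from congrArg Subtype.val h, map_zero])⟩⟩
  let π : Representation K R U0 :=
    { toFun := fun a => (π0 a).restrict (hU0 a)
      map_one' := by ext w; simp
      map_mul' := fun a b => by ext w; simp }
  have hπ : ∀ a w, (π a w : W) = ψ (a : X) w := fun a w => rfl
  have hirr : ∀ U' : Submodule K U0, (∀ r, U'.map (π r) ≤ U') → U' = ⊥ ∨ U' = ⊤ := by
    intro U' hU'
    have hinj : Function.Injective (Submodule.map U0.subtype) :=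
      Submodule.map_injective_of_injective U0.injective_subtype
    rcases hU0irr (U'.map U0.subtype) (Submodule.map_subtype_le _ _) (fun r => by
        rintro _ ⟨w, hw, rfl⟩
        exact ⟨π r w, hU' r ⟨w, hw, rfl⟩, rfl⟩) with h | h
    · exact Or.inl (hinj (by rw [h, Submodule.map_bot]))
    · exact Or.inr (hinj (by rw [h, Submodule.map_subtype_top]))
  set σ : MulAut R := R.normalizerMonoidHom ⟨x, hxR⟩ with hσdef
  have hσk : ∀ (k : ℕ) (a : R), (((σ ^ k) a : R) : X) = x ^ k * a * (x ^ k)⁻¹ := fun k a => by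
    rw [hσdef, ← map_pow]; rfl
  have hσn : σ ^ p ^ n = 1 := MulEquiv.ext fun a => Subtype.ext (by rw [hσk, hx]; simp)
  have hψσ : ∀ (k : ℕ) (a : R), ψ (x ^ k) * ψ (a : X) = ψ ((σ ^ k) a : R) * ψ (x ^ k) := fun k a => by
    rw [← map_mul, ← map_mul, hσk, inv_mul_cancel_right]
  -- the powers of `x` fixing the isomorphism type
  let P : ℕ → Prop := fun k =>
    ∃ T : Module.End K U0, IsUnit T ∧ ∀ a, T * π a = π ((σ ^ k) a) * T
  have hPn : P (p ^ n) := ⟨1, isUnit_one, fun a => by rw [hσn, one_mul, mul_one]; rfl⟩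
  have hex : ∃ k, 0 < k ∧ P k := ⟨p ^ n, pow_pos (Fact.out : p.Prime).pos n, hPn⟩
  obtain ⟨hP0, hPm⟩ := Nat.find_spec hex
  set m := Nat.find hex with hm
  have hdvd : ∀ k, P k → m ∣ k := by
    intro k
    induction k using Nat.strong_induction_on with
    | _ k ih =>
      intro hk
      rcases Nat.eq_zero_or_pos k with rfl | hk0
      · exact dvd_zero m
      have hmk : m ≤ k := Nat.find_min' hex ⟨hk0, hk⟩
      obtain ⟨T, hT, hTπ⟩ := hk
      obtain ⟨Tm, ⟨Tm, rfl⟩, hTmπ⟩ := hPm
      have h1 : P (k - m) := by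
        refine ⟨↑Tm⁻¹ * T, (Units.isUnit _).mul hT, fun a => ?_⟩
        have e1 := hTmπ ((σ ^ (k - m)) a)
        rw [← MulAut.mul_apply, ← pow_add, Nat.add_sub_cancel' hmk] at e1
        rw [mul_assoc, hTπ, ← mul_assoc, ← mul_assoc]
        congr 1
        rw [Units.inv_mul_eq_iff_eq_mul, ← mul_assoc, e1, mul_assoc, Units.mul_inv, mul_one]
      have h2 := ih (k - m) (by omega) h1
      exact (Nat.dvd_add_self_right.2 h2).trans (dvd_of_eq (Nat.sub_add_cancel hmk))
  obtain ⟨j, hjn, hj⟩ := (Nat.dvd_prime_pow (Fact.out : p.Prime)).1 (hdvd _ hPn)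
  obtain ⟨T, hTu, hTπ⟩ := hPm
  rw [hj] at hTπ hdvd
  -- normalise `T` to have order dividing `p ^ (n - j)`
  set N := p ^ (n - j) with hN
  have hNpos : 0 < N := pow_pos (Fact.out : p.Prime).pos _
  have hjN : p ^ j * N = p ^ n := by rw [hN, ← pow_add, Nat.add_sub_cancel' hjn]
  have hTk : ∀ k a, T ^ k * π a = π ((σ ^ (p ^ j * k)) a) * T ^ k := by
    intro k
    induction k with
    | zero => intro a; simp
    | succ k ih =>
      intro a
      rw [pow_succ', mul_assoc, ih, ← mul_assoc, hTπ, mul_assoc, ← MulAut.mul_apply, ← pow_add,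
        mul_add, mul_one, add_comm (p ^ j)]
  obtain ⟨μ, hμ⟩ := exists_scalar_of_commute (fun a : R => π a) hirr (T ^ N) fun a => by
    rw [hTk, hjN, hσn]; rfl
  obtain ⟨ν, hν⟩ := IsAlgClosed.exists_pow_nat_eq μ hNpos
  have hμ0 : μ ≠ 0 := by
    rintro rfl
    rw [zero_smul] at hμ
    exact not_isUnit_zero (hμ ▸ hTu.pow N)
  set T' : Module.End K U0 := ν⁻¹ • T with hT'
  have hT'N : T' ^ N = 1 := by
    rw [hT', smul_pow, hμ, smul_smul, inv_pow, hν, inv_mul_cancel₀ hμ0, one_smul]
  have hT'k : ∀ k a, T' ^ k * π a = π ((σ ^ (p ^ j * k)) a) * T' ^ k := fun k a => by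
    rw [hT', smul_pow, smul_mul_assoc, mul_smul_comm, hTk]
  -- the translation operator on linear maps
  let L : Module.End K (U0 →ₗ[K] W) :=
    LinearMap.llcomp K U0 W W (ψ (x ^ p ^ j)) ∘ₗ LinearMap.lcomp K W (T' ^ (N - 1))
  have hL : ∀ f u, L f u = ψ (x ^ p ^ j) (f ((T' ^ (N - 1)) u)) := fun f u => rfl
  have hLk : ∀ k f u, (L ^ k) f u = ψ (x ^ (p ^ j * k)) (f ((T' ^ ((N - 1) * k)) u)) := by
    intro k
    induction k with
    | zero => intro f u; simp
    | succ k ih =>
      intro f u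
      rw [pow_succ', Module.End.mul_apply, hL, ih, ← Module.End.mul_apply (ψ _), ← map_mul, ← pow_add,
        ← Module.End.mul_apply (T' ^ ((N - 1) * k)), ← pow_add, ← mul_one_add, ← mul_add_one,
        add_comm 1 k]
  have hLN : L ^ N = 1 := by
    refine LinearMap.ext fun f => LinearMap.ext fun u => ?_
    rw [hLk, hjN, hx, map_one, mul_comm (N - 1), pow_mul, hT'N, one_pow]
    rfl
  have : Nontrivial (U0 →ₗ[K] W) := ⟨⟨U0.subtype, 0, fun h => hu0c (by
    have h' := LinearMap.congr_fun h ⟨u0, hu0⟩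
    rw [LinearMap.zero_apply] at h'
    rw [show u0 = 0 from h', map_zero])⟩⟩
  have : CharP (Module.End K (U0 →ₗ[K] W)) p :=
    charP_of_injective_algebraMap (algebraMap K (Module.End K (U0 →ₗ[K] W))).injective p
  have hLnil : (L - 1) ^ N = 0 := by
    rw [hN, sub_pow_char_pow_of_commute p _ (Commute.one_right L), one_pow, ← hN, hLN, sub_self]
  let Eq : (U0 →ₗ[K] W) → Prop := fun f => ∀ a u, f (π a u) = ψ (a : X) (f u)
  have hLeq : ∀ f, Eq f → Eq (L f) := by
    intro f hf a u
    rw [hL, hL, ← Module.End.mul_apply (T' ^ (N - 1)), hT'k, Module.End.mul_apply, hf,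
      ← Module.End.mul_apply (ψ (x ^ p ^ j)), hψσ, Module.End.mul_apply, ← MulAut.mul_apply, ← pow_add,
      ← mul_one_add, Nat.add_sub_cancel' (show 1 ≤ N from hNpos), hjN, hσn]
    rfl
  have hDeq : ∀ k f, Eq f → Eq (((L - 1) ^ k : Module.End K (U0 →ₗ[K] W)) f) := by
    intro k
    induction k with
    | zero => intro f hf; simpa using hf
    | succ k ih =>
      intro f hf a u
      rw [pow_succ', Module.End.mul_apply, LinearMap.sub_apply, Module.End.one_apply]
      simp only [LinearMap.sub_apply, map_sub]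
      rw [hLeq _ (ih f hf), ih f hf]
  have hex2 : ∃ k, ((L - 1) ^ k : Module.End K (U0 →ₗ[K] W)) U0.subtype = 0 := ⟨N, by rw [hLnil, LinearMap.zero_apply]⟩
  obtain ⟨k, hk⟩ : ∃ k, Nat.find hex2 = k + 1 := by
    refine ⟨Nat.find hex2 - 1, (Nat.sub_add_cancel (Nat.one_le_iff_ne_zero.2 fun h => hu0c ?_)).symm⟩
    have h' := Nat.find_spec hex2
    rw [h, pow_zero, Module.End.one_apply] at h'
    rw [show u0 = 0 from (LinearMap.congr_fun h' ⟨u0, hu0⟩).trans (LinearMap.zero_apply _), map_zero]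
  set f := ((L - 1) ^ k : Module.End K (U0 →ₗ[K] W)) U0.subtype with hf
  have hf0 : f ≠ 0 := Nat.find_min hex2 (by omega)
  have hfix : L f = f := by
    have h' := Nat.find_spec hex2
    rw [hk, pow_succ', Module.End.mul_apply, LinearMap.sub_apply, Module.End.one_apply, sub_eq_zero] at h'
    exact h'
  have hfeq : Eq f := hDeq k _ fun a u => rfl
  have hfT : ∀ u, ψ (x ^ p ^ j) (f u) = f (T' u) := fun u => by
    conv_rhs => rw [← hfix]
    rw [hL, ← Module.End.mul_apply (T' ^ (N - 1)), ← pow_succ, Nat.sub_add_cancel hNpos, hT'N,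
      Module.End.one_apply]
  have hfinj : LinearMap.ker f = ⊥ := by
    refine (hirr (LinearMap.ker f) fun a => ?_).resolve_right fun h => hf0 (LinearMap.ker_eq_top.1 h)
    rintro _ ⟨w, hw, rfl⟩
    rw [LinearMap.mem_ker, hfeq, LinearMap.mem_ker.1 hw, map_zero]
  refine ⟨j, LinearMap.range f, hjn, ?_, ?_, ?_, ?_, ?_⟩
  · rintro a _ ⟨u, rfl⟩
    exact ⟨π a u, hfeq a u⟩
  · intro U' hU' hinv
    rcases hirr (U'.comap f) (fun a => by
        rintro _ ⟨w, hw, rfl⟩
        rw [Submodule.mem_comap, hfeq]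
        exact hinv a _ hw) with h | h
    · refine Or.inl ((Submodule.eq_bot_iff _).2 fun w hw => ?_)
      obtain ⟨u, rfl⟩ := hU' hw
      rw [show u = 0 from (Submodule.eq_bot_iff _).1 h u hw, map_zero]
    · refine Or.inr (le_antisymm hU' ?_)
      rintro _ ⟨u, rfl⟩
      exact (h ▸ Submodule.mem_top : u ∈ U'.comap f)
  · rintro _ ⟨u, rfl⟩
    exact ⟨T' u, (hfT u).symm⟩
  · refine ⟨f ⟨u0, hu0⟩, ⟨_, rfl⟩, fun h => hu0c ?_⟩
    rw [← hfeq] at h
    exact congrArg Subtype.val (LinearMap.ker_eq_bot.1 hfinj h)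
  · intro u hu hsum
    choose v hv using hu
    obtain ⟨d, hd0, htw⟩ := exists_twirl π (⊤ : Subgroup R) Finset.univ (fun g => by simp)
      (by rwa [Finset.card_univ, ← Nat.card_eq_fintype_card]) (fun U' hU' => hirr U' fun r =>
        hU' ⟨r, trivial⟩)
    have h1 := htw 1
    simp only [mul_one] at h1
    have hzero : ∀ i ∈ range (p ^ j), i ≠ 0 →
        ∑ r : R, LinearMap.trace K U0 (π r⁻¹) • ψ (r : X) (ψ (x ^ i) (u i)) = 0 := by
      intro i hi hi0
      rw [← hv i]
      refine twirl_translate_eq_zero π π0 hirr f hfeq (ψ (x ^ i)) (σ ^ i)⁻¹ (fun r w => ?_) ?_ (v i)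
      · show ψ (r : X) (ψ (x ^ i) w) = ψ (x ^ i) (ψ (((σ ^ i)⁻¹ r : R) : X) w)
        rw [← Module.End.mul_apply (ψ (x ^ i)), hψσ, ← MulAut.mul_apply, mul_inv_cancel,
          MulAut.one_apply, Module.End.mul_apply]
      · intro S hS
        by_contra hno
        push Not at hno
        obtain ⟨S, rfl⟩ := hS
        have hPi : P i := ⟨↑S⁻¹, Units.isUnit _, fun a => by
          have e := hno ((σ ^ i) a)
          rw [← MulAut.mul_apply, inv_mul_cancel, MulAut.one_apply] at e
          rw [Units.inv_mul_eq_iff_eq_mul, ← mul_assoc, e, mul_assoc, Units.mul_inv, mul_one]⟩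
        have := Nat.le_of_dvd (Nat.pos_of_ne_zero hi0) (hdvd i hPi)
        rw [Finset.mem_range] at hi
        omega
    have h0 : ∑ r : R, LinearMap.trace K U0 (π r⁻¹) • ψ (r : X) (u 0) = d • u 0 := by
      rw [← hv 0]
      have := congrArg (fun g : Module.End K U0 => f (g (v 0))) h1
      simpa [LinearMap.sum_apply, hfeq _ _] using this
    have hall := congrArg (fun w => ∑ r : R, LinearMap.trace K U0 (π r⁻¹) • ψ (r : X) w) hsum
    simp only [map_sum, map_zero, smul_zero, Finset.sum_const_zero, Finset.smul_sum] at hall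
    rw [Finset.sum_comm, Finset.sum_eq_single 0 hzero
      (fun h => absurd (Finset.mem_range.2 (pow_pos (Fact.out : p.Prime).pos j)) h), pow_zero, map_one]
      at hall
    simp only [Module.End.one_apply] at hall
    rw [h0] at hall
    exact (smul_eq_zero.1 hall).resolve_left hd0

/-- Theorem B of Hall and Higman. -/
theorem exceptional_of_nilpotent (ψ : X →* Module.End K W) (hψ : Function.Injective ψ)
    (hs : Cfsg.IsPSolvable p X) (hcore : Cfsg.pCore p X = ⊥) {x : X} {n : ℕ} (hn : 1 ≤ n)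
    (hxn : orderOf x = p ^ n) (r : ℕ) (hr : (ψ x - 1) ^ r = 0) (hlt : r < p ^ n) :
    ∃ n₀ q m : ℕ, 1 ≤ n₀ ∧ n₀ ≤ n ∧ q.Prime ∧ 1 ≤ m ∧ p ^ n₀ - 1 = q ^ m ∧
      (∀ Q : Sylow q X, ¬ IsMulCommutative Q) ∧ p ^ (n - n₀) * (p ^ n₀ - 1) ≤ r := by
  classical
  have hp : p.Prime := Fact.out
  have hx : x ^ p ^ n = 1 := hxn ▸ pow_orderOf_eq_one x
  set y := x ^ p ^ (n - 1) with hy
  have hy1 : y ≠ 1 := fun h => by
    have := Nat.le_of_dvd (pow_pos hp.pos _) (hxn ▸ orderOf_dvd_of_pow_eq_one h)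
    exact absurd this (not_le.2 (Nat.pow_lt_pow_right hp.one_lt (by omega)))
  have hyp : y ^ p = 1 := by rw [hy, ← pow_mul, ← pow_succ, Nat.sub_add_cancel hn, hx]
  obtain ⟨q, R0, hq, hqp, hR0, hxR0, hyR0⟩ :=
    HallHigman.exists_invariant_sylow_moved hs hcore hx hyp hy1
  have := Fact.mk hq
  -- a minimal invariant subgroup moved by `y`
  have hex : ∃ k, ∃ R : Subgroup X, Nat.card R = k ∧ IsPGroup q R ∧
      x ∈ Subgroup.normalizer (R : Set X) ∧ y ∉ Subgroup.centralizer (R : Set X) :=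
    ⟨_, R0, rfl, hR0, hxR0, hyR0⟩
  obtain ⟨R, hRc, hR, hxR, hyR⟩ := Nat.find_spec hex
  have hRmin : ∀ V : Subgroup X, V < R → x ∈ Subgroup.normalizer (V : Set X) →
      y ∈ Subgroup.centralizer (V : Set X) := by
    intro V hV hxV
    by_contra hyV
    have h1 : Nat.card V < Nat.card R :=
      lt_of_le_of_ne (Subgroup.card_le_of_le hV.le) fun h =>
        hV.ne (Subgroup.eq_of_le_of_card_ge hV.le h.ge)
    exact (hRc ▸ h1).not_ge (Nat.find_min' hex ⟨V, rfl, hR.to_le hV.le, hxV, hyV⟩)
  -- what commutes with `y` is central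
  have hBR : Subgroup.zpowers x ≤ Subgroup.normalizer (R : Set X) := Subgroup.zpowers_le.2 hxR
  have hAB : Subgroup.zpowers y ≤ Subgroup.zpowers x :=
    Subgroup.zpowers_le.2 (pow_mem (Subgroup.mem_zpowers x) _)
  have hAn : Subgroup.zpowers x ≤ Subgroup.normalizer ((Subgroup.zpowers y : Subgroup X) : Set X) :=
    Subgroup.zpowers_le.2 (Subgroup.mem_normalizer_iff.2 fun g => by
      have hcomm : ∀ h ∈ Subgroup.zpowers y, x * h = h * x := fun h hh => by
        obtain ⟨i, rfl⟩ := Subgroup.mem_zpowers_iff.1 hh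
        exact (Commute.zpow_right (Commute.self_pow x _) i).eq
      constructor
      · intro hg; rwa [hcomm g hg, mul_inv_cancel_right]
      · intro hg
        have := hcomm _ hg
        rwa [show g = x * g * x⁻¹ from by
          calc g = x⁻¹ * (x * g * x⁻¹ * x) := by group
            _ = x⁻¹ * (x * (x * g * x⁻¹)) := by rw [← this]
            _ = x * g * x⁻¹ := by group])
  have hAq : (Nat.card (Subgroup.zpowers y)).Coprime q := by
    rw [Nat.card_zpowers, orderOf_eq_prime hyp hy1]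
    exact (Nat.coprime_primes hp hq).2 (Ne.symm hqp)
  have hnt : ⁅R, Subgroup.zpowers y⁆ ≠ ⊥ := fun h => hyR
    ((Coprime.le_centralizer_iff_commutator_eq_bot.2 h) (Subgroup.mem_zpowers y))
  obtain ⟨-, hstruct, hirrR, -⟩ := S3736.result (Subgroup.zpowers x) (Subgroup.zpowers y) R hR hBR hAB
    hAn hAq hnt fun V hV hVn => Coprime.le_centralizer_iff_commutator_eq_bot.1
      (Subgroup.zpowers_le.2 (hRmin V hV (hVn (Subgroup.mem_zpowers x))))
  have hfixcent : ∀ a ∈ R, y * a = a * y → ∀ b ∈ R, a * b = b * a := by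
    intro a ha hya b hb
    rcases hstruct with hel | hsp
    · exact congrArg Subtype.val (hel.1.is_comm.comm ⟨a, ha⟩ ⟨b, hb⟩)
    have : Nontrivial R := by
      rw [Subgroup.nontrivial_iff_ne_bot]
      rintro rfl
      exact hnt (Subgroup.commutator_bot_left _)
    set D := (frattini ↥R).map R.subtype with hD
    set C := R ⊓ Subgroup.centralizer ({y} : Set X) with hC
    have hxD : x ∈ Subgroup.normalizer (D : Set X) :=
      Components.normalizer_le_normalizer_map_of_characteristic R (frattini ↥R) hxR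
    have hDlt : D < R := by
      refine lt_of_le_of_ne (Subgroup.map_subtype_le _) fun h => ?_
      obtain ⟨M, hM⟩ := (IsCoatomic.eq_top_or_exists_le_coatom (⊥ : Subgroup R)).resolve_left bot_ne_top
      refine hM.1.1 (top_unique (le_trans (le_of_eq ?_) (frattini_le_coatom hM.1)))
      rw [← Subgroup.map_subtype_inj, ← MonoidHom.range_eq_map, Subgroup.range_subtype]
      exact h.symm
    have hDC : D ≤ C := le_inf (Subgroup.map_subtype_le _) fun d hd =>
      Subgroup.mem_centralizer_singleton_iff.2 (Subgroup.mem_centralizer_iff.1 (hRmin D hDlt hxD) d hd)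
    have hxC : Subgroup.zpowers x ≤ Subgroup.normalizer (C : Set X) := by
      refine Subgroup.zpowers_le.2 (Subgroup.mem_normalizer_iff.2 fun g => ?_)
      have hxy : Commute x y := Commute.self_pow x _
      simp only [hC, Subgroup.mem_inf, Subgroup.mem_centralizer_singleton_iff]
      refine and_congr (Subgroup.mem_normalizer_iff.1 hxR g) ?_
      have e : y = x * y * x⁻¹ := by rw [hxy.eq, mul_inv_cancel_right]
      constructor
      · intro h
        calc x * g * x⁻¹ * y = x * g * x⁻¹ * (x * y * x⁻¹) := by rw [← e]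
          _ = x * (g * y) * x⁻¹ := by group
          _ = x * (y * g) * x⁻¹ := by rw [h]
          _ = (x * y * x⁻¹) * (x * g * x⁻¹) := by group
          _ = y * (x * g * x⁻¹) := by rw [← e]
      · intro h
        calc g * y = x⁻¹ * (x * g * x⁻¹ * (x * y * x⁻¹)) * x := by group
          _ = x⁻¹ * (x * y * x⁻¹ * (x * g * x⁻¹)) * x := by rw [← e, h]
          _ = y * g := by group
    have hCD : C = D := (hirrR C hDC inf_le_left hxC).resolve_right fun h => hyR
      (Subgroup.mem_centralizer_iff.2 fun z hz =>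
        Subgroup.mem_centralizer_singleton_iff.1 ((h ▸ hz : z ∈ C)).2)
    obtain ⟨a', ha', rfl⟩ : a ∈ D := hCD ▸ ⟨ha, Subgroup.mem_centralizer_singleton_iff.2 hya.symm⟩
    rw [SetLike.mem_coe, hsp.2.1, Subgroup.mem_center_iff] at ha'
    exact congrArg Subtype.val (ha' ⟨b, hb⟩).symm
  -- the piece
  have hRK : (Nat.card R : K) ≠ 0 := by
    obtain ⟨a, ha⟩ := hR.exists_card_eq
    rw [ha, ne_eq, CharP.cast_eq_zero_iff K p]
    exact fun h => hqp ((Nat.prime_dvd_prime_iff_eq hp hq).1 (hp.dvd_of_dvd_pow h)).symm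
  obtain ⟨r0, hr0, hr0y⟩ : ∃ r0 ∈ R, y * r0 ≠ r0 * y := by
    by_contra h
    push Not at h
    exact hyR (Subgroup.mem_centralizer_iff.2 fun z hz => (h z hz).symm)
  have hyR' : y ∈ Subgroup.normalizer (R : Set X) := pow_mem hxR _
  let c : R := ⟨r0⁻¹ * (y * r0 * y⁻¹),
    mul_mem (inv_mem hr0) ((Subgroup.mem_normalizer_iff.1 hyR' r0).1 hr0)⟩
  have hc : ψ (c : X) ≠ 1 := fun h => hr0y (by
    have := hψ (h.trans (map_one ψ).symm)
    rw [show y * r0 = r0 * (r0⁻¹ * (y * r0 * y⁻¹)) * y by group,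
      show r0⁻¹ * (y * r0 * y⁻¹) = 1 from this, mul_one])
  obtain ⟨j, U, hjn, hU, hUirr, hUP, ⟨u1, hu1, hu1c⟩, hfree⟩ :=
    exists_translate_free ψ R hRK hxR hx hc
  have : Nontrivial U := ⟨⟨⟨u1, hu1⟩, 0, fun h => hu1c (by
    rw [show u1 = 0 from congrArg Subtype.val h, map_zero])⟩⟩
  have : CharP (Module.End K U) p :=
    charP_of_injective_algebraMap (algebraMap K (Module.End K U)).injective p
  set xP := x ^ p ^ j with hxP
  set TP : Module.End K U := (ψ xP).restrict hUP with hTP
  have hTPk : ∀ (k : ℕ) (w : U), (((TP - 1) ^ k) w : W) = ((ψ xP - 1) ^ k) (w : W) := by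
    intro k
    induction k with
    | zero => intro w; simp
    | succ k ih =>
      intro w
      rw [pow_succ', pow_succ', Module.End.mul_apply, Module.End.mul_apply, LinearMap.sub_apply,
        LinearMap.sub_apply, Module.End.one_apply, Module.End.one_apply, Submodule.coe_sub, hTP,
        LinearMap.restrict_coe_apply, ← hTP, ih]
  have hTPpow : ∀ (k : ℕ) (w : U), ((TP ^ k) w : W) = ψ (xP ^ k) (w : W) := by
    intro k
    induction k with
    | zero => intro w; simp
    | succ k ih =>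
      intro w
      rw [pow_succ', Module.End.mul_apply, pow_succ' xP, map_mul, Module.End.mul_apply, ← ih]
      rfl
  have hTPN : (TP - 1) ^ p ^ (n - j) = 0 := by
    rw [sub_pow_char_pow_of_commute p _ (Commute.one_right TP), one_pow, sub_eq_zero]
    refine LinearMap.ext fun w => Subtype.ext ?_
    rw [hTPpow, hxP, ← pow_mul, ← pow_add, Nat.add_sub_cancel' hjn, hx, map_one]
    rfl
  have hexs : ∃ s, (TP - 1) ^ s = 0 := ⟨_, hTPN⟩
  set s := Nat.find hexs with hsdef
  have hs1 : 1 ≤ s := Nat.one_le_iff_ne_zero.2 fun h => by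
    have h' := Nat.find_spec hexs
    rw [← hsdef, h, pow_zero] at h'
    exact one_ne_zero h'
  -- the lower bound
  have hbound : p ^ j * s ≤ r := by
    by_contra hlt'
    refine Nat.find_min hexs (show s - 1 < s by omega) (LinearMap.ext fun w => Subtype.ext ?_)
    have h1 : (ψ x - 1) ^ (p ^ j - 1 + p ^ j * (s - 1)) = 0 := by
      refine pow_eq_zero_of_le ?_ hr
      have h2 : p ^ j * s = p ^ j * (s - 1) + p ^ j := by
        conv_lhs => rw [← Nat.sub_add_cancel hs1, mul_add, mul_one]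
      have := pow_pos hp.pos j
      omega
    have : CharP (Module.End K W) p := by
      have : Nontrivial W := ⟨⟨u1, 0, fun h => hu1c (by rw [h, map_zero])⟩⟩
      exact charP_of_injective_algebraMap (algebraMap K (Module.End K W)).injective p
    rw [pow_add, pow_mul, sub_pow_char_pow_of_commute p j (Commute.one_right (ψ x)), one_pow,
      ← map_pow, ← hxP, HallHigman.sub_one_pow_eq_sum (p := p)] at h1
    have h2 := LinearMap.congr_fun h1 (w : W)
    rw [Module.End.mul_apply, LinearMap.sum_apply, ← hTPk, LinearMap.zero_apply] at h2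
    simp only [← map_pow] at h2
    exact (hfree (fun _ => (((TP - 1) ^ (s - 1)) w : W)) (fun _ => Subtype.coe_prop _) h2).trans (by simp)
  set N := p ^ (n - j) with hN
  have hjN : p ^ j * N = p ^ n := by rw [hN, ← pow_add, Nat.add_sub_cancel' hjn]
  have hsN : s < N := by
    have := lt_of_le_of_lt hbound (hjN.symm ▸ hlt)
    exact Nat.lt_of_mul_lt_mul_left this
  have hjn' : j < n := by
    rcases hjn.lt_or_eq with h | h
    · exact h
    · rw [hN, h, Nat.sub_self, pow_zero] at hsN
      omega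
  -- the group generated by `R` and `x ^ p ^ j`
  set G0 := R ⊔ Subgroup.zpowers xP with hG0
  have hxPR : xP ∈ Subgroup.normalizer (R : Set X) := pow_mem hxR _
  have hG0N : G0 ≤ Subgroup.normalizer (R : Set X) :=
    sup_le Subgroup.le_normalizer (Subgroup.zpowers_le.2 hxPR)
  have hG0U : ∀ g : G0, ∀ w ∈ U, ψ (g : X) w ∈ U := by
    let S : Submonoid X :=
      { carrier := {g | ∀ w ∈ U, ψ g w ∈ U}
        one_mem' := fun w hw => by simpa using hw
        mul_mem' := fun {a b} ha hb w hw => by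
          rw [map_mul, Module.End.mul_apply]; exact ha _ (hb w hw) }
    let S' : Subgroup X :=
      { S with
        inv_mem' := fun {a} ha => by
          obtain ⟨k, hk⟩ := mem_powers_iff_mem_zpowers.2 (inv_mem (Subgroup.mem_zpowers a))
          show a⁻¹ ∈ S
          rw [← hk]
          exact pow_mem ha k }
    have h1 : G0 ≤ S' := sup_le (fun a ha => hU ⟨a, ha⟩) (Subgroup.zpowers_le.2 hUP)
    exact fun g => h1 g.2
  let ρ : Representation K G0 U :=
    { toFun := fun g => (ψ (g : X)).restrict (hG0U g)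
      map_one' := by ext w; simp
      map_mul' := fun a b => by ext w; simp }
  set Q := R.subgroupOf G0 with hQ
  have hQn : Q.Normal := (Subgroup.normal_subgroupOf_iff_le_normalizer le_sup_left).2 hG0N
  set x0 : G0 := ⟨xP, Subgroup.mem_sup_right (Subgroup.mem_zpowers xP)⟩ with hx0
  have hρx0 : ρ x0 = TP := rfl
  have hcardQ : (Nat.card Q : K) ≠ 0 := by
    rwa [hQ, Nat.card_congr (Subgroup.subgroupOfEquivOfLe (le_sup_left (b := Subgroup.zpowers xP))).toEquiv]
  have hirr' : ∀ V : Submodule K U, (∀ g : Q, V.map (ρ g) ≤ V) → V = ⊥ ∨ V = ⊤ := by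
    intro V hV
    have hinj : Function.Injective (Submodule.map U.subtype) :=
      Submodule.map_injective_of_injective U.injective_subtype
    rcases hUirr (V.map U.subtype) (Submodule.map_subtype_le _ _) (fun a => by
        rintro _ ⟨w, hw, rfl⟩
        exact ⟨ρ ⟨a, Subgroup.mem_sup_left a.2⟩ w,
          hV ⟨⟨a, Subgroup.mem_sup_left a.2⟩, a.2⟩ ⟨w, hw, rfl⟩, rfl⟩) with h | h
    · exact Or.inl (hinj (by rw [h, Submodule.map_bot]))
    · exact Or.inr (hinj (by rw [h, Submodule.map_subtype_top]))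
  have hord : orderOf x0 = N := by
    rw [← Subgroup.orderOf_coe]
    show orderOf (x ^ p ^ j) = N
    rw [orderOf_pow' x (pow_pos hp.pos j).ne', hxn,
      Nat.gcd_eq_right (pow_dvd_pow p hjn), Nat.pow_div hjn hp.pos]
  have hTP1 : ρ x0 ≠ 1 := by
    intro h
    refine hu1c ?_
    have hfix : ∀ w ∈ U, ψ xP w = w := fun w hw => by
      have := congrArg (fun g : Module.End K U => (g ⟨w, hw⟩ : W)) (hρx0 ▸ h)
      simpa [hTP] using this
    obtain ⟨d, hd⟩ : ∃ d, y = xP ^ d :=
      ⟨p ^ (n - 1 - j), by rw [hxP, ← pow_mul, ← pow_add, Nat.add_sub_cancel' (by omega), hy]⟩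
    have hfixy : ∀ w ∈ U, ψ y w = w := by
      rw [hd]
      clear hd
      intro w hw
      induction d with
      | zero => simp
      | succ d ih => rw [pow_succ', map_mul, Module.End.mul_apply, ih, hfix w hw]
    have hfixy' : ψ y⁻¹ u1 = u1 := by
      conv_lhs => rw [← hfixy u1 hu1]
      rw [← Module.End.mul_apply, ← map_mul, inv_mul_cancel, map_one, Module.End.one_apply]
    show ψ (r0⁻¹ * (y * r0 * y⁻¹)) u1 = u1
    rw [map_mul, map_mul, map_mul, Module.End.mul_apply, Module.End.mul_apply, Module.End.mul_apply,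
      hfixy', hfixy _ (hU ⟨r0, hr0⟩ u1 hu1), ← Module.End.mul_apply, ← map_mul, inv_mul_cancel, map_one,
      Module.End.one_apply]
  have hscal : ∀ a : G0, a ∈ Q → (∀ b ∈ R, (a : X) * b = b * a) → ∃ c : K, ρ a = c • 1 := by
    intro a ha hcomm
    refine exists_scalar_of_commute (fun g : Q => ρ g) hirr' (ρ a) fun g => ?_
    rw [← map_mul, ← map_mul]
    exact congrArg ρ (Subtype.ext (hcomm _ g.2).symm)
  obtain ⟨hsN1, hdim, hdim2⟩ := critical_bound (p := p) ρ Q hcardQ hirr' x0 (e := n - j) hord hTP1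
    (fun a ha hnsc g hg hcomm => by
      obtain ⟨k, rfl⟩ := mem_powers_iff_mem_zpowers.2 hg
      have hcommX : x ^ (p ^ j * k) * (a : X) = (a : X) * x ^ (p ^ j * k) := by
        have := congrArg Subtype.val hcomm
        simpa [hx0, hxP, ← pow_mul] using this
      rcases Nat.eq_zero_or_pos ((p ^ j * k) % p ^ n) with h0 | h0
      · apply Subtype.ext
        show ((x0 ^ k : G0) : X) = 1
        rw [SubgroupClass.coe_pow]
        show (x ^ p ^ j) ^ k = 1
        rw [← pow_mul]
        exact orderOf_dvd_iff_pow_eq_one.1 (hxn ▸ Nat.dvd_of_mod_eq_zero h0)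
      exfalso
      have hm : x ^ ((p ^ j * k) % p ^ n) ∈ Subgroup.centralizer ({(a : X)} : Set X) := by
        rw [← hxn, pow_mod_orderOf, Subgroup.mem_centralizer_singleton_iff]
        exact hcommX
      have hyC := HallHigman.pow_pred_mem hp hx _ hm h0 (Nat.mod_lt _ (pow_pos hp.pos n))
      rw [Subgroup.mem_centralizer_singleton_iff] at hyC
      obtain ⟨c, hc⟩ := hscal a ha fun b hb => hfixcent _ ha hyC b hb
      exact hnsc c hc)
    s (Nat.find_spec hexs) (fun k hk => Nat.find_min hexs hk) hsN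
  have : IsPGroup q Q := hR.comap_of_injective G0.subtype Subtype.val_injective
  obtain ⟨m, hm⟩ := exists_finrank_eq_pow (K := K) (q := q) (Nat.card Q) le_rfl this
    (ρ.comp Q.subtype) hirr'
  have hm1 : 1 ≤ m := Nat.one_le_iff_ne_zero.2 fun h => by
    rw [h, pow_zero] at hm
    omega
  refine ⟨n - j, q, m, by omega, Nat.sub_le _ _, hq, hm1, hdim.symm.trans hm, ?_, ?_⟩
  · intro Q' hQ'
    obtain ⟨S, hS⟩ := hR.exists_le_sylow
    have hScomm : ∀ a b : S, a * b = b * a := fun a b => (Sylow.equiv S Q').injective (by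
      rw [map_mul, map_mul]; exact hQ'.is_comm.comm _ _)
    have hall : ∀ a : G0, a ∈ Q → ∃ c : K, ρ a = c • 1 := fun a ha => hscal a ha fun b hb =>
      congrArg Subtype.val (hScomm ⟨a, hS ha⟩ ⟨b, hS hb⟩)
    have hline := hirr' (K ∙ (⟨u1, hu1⟩ : U)) fun g => by
      obtain ⟨c, hc⟩ := hall g g.2
      rintro _ ⟨w, hw, rfl⟩
      rw [hc]
      simpa using Submodule.smul_mem _ c hw
    have hu10 : (⟨u1, hu1⟩ : U) ≠ 0 := fun h => hu1c (by
      rw [show u1 = 0 from congrArg Subtype.val h, map_zero])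
    rcases hline with h | h
    · exact hu10 (by simpa using h)
    · have := finrank_top K U
      rw [← h, finrank_span_singleton hu10] at this
      omega
  · rw [Nat.sub_sub_self hjn, ← hN, ← hsN1]
    exact hbound

end Cfsg.Agent.HallHigmanCritical
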