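import Cfsg.Agent.Lib.HallHigmanCritical.Norms

/-!
Irreducible constituents of a coprime representation and the translates of one of them by an operator
inducing an automorphism.
-/

namespace Cfsg.Agent.HallHigmanCritical

open Finset

variable {R : Type*} [Group R] [Finite R] {K : Type*} [Field K] {W : Type*} [AddCommGroup W] [Module K W]

/-- Maschke, by averaging a projection. -/
theorem exists_invariant_compl (ρ : Representation K R W) (hR : (Nat.card R : K) ≠ 0)
    (U : Submodule K W) (hU : ∀ r, ∀ w ∈ U, ρ r w ∈ U) :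
    ∃ C : Submodule K W, (∀ r, ∀ w ∈ C, ρ r w ∈ C) ∧ IsCompl U C := by
  classical
  let _ := Fintype.ofFinite R
  obtain ⟨C0, hC0⟩ := U.exists_isCompl
  let P0 : W →ₗ[K] W := U.projection C0 hC0
  have hP0 : ∀ w, P0 w ∈ U := fun w => Submodule.projection_apply_mem hC0 w
  have hP0U : ∀ w ∈ U, P0 w = w := fun w hw => (Submodule.projection_apply_left hC0 ⟨w, hw⟩)
  let P : W →ₗ[K] W := (Nat.card R : K)⁻¹ • ∑ r : R, ρ r * P0 * ρ r⁻¹
  have hP : ∀ w, P w = (Nat.card R : K)⁻¹ • ∑ r : R, ρ r (P0 (ρ r⁻¹ w)) := fun w => by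
    simp [P, LinearMap.sum_apply]
  have hcomm : ∀ a w, P (ρ a w) = ρ a (P w) := by
    intro a w
    rw [hP, hP, map_smul, map_sum]
    congr 1
    refine (Fintype.sum_equiv (Equiv.mulLeft a) _ _ fun r => ?_).symm
    rw [Equiv.coe_mulLeft]
    simp only [mul_inv_rev, map_mul, Module.End.mul_apply]
    rw [← Module.End.mul_apply (ρ a⁻¹), ← map_mul, inv_mul_cancel, map_one, Module.End.one_apply]
  have hPU : ∀ w ∈ U, P w = w := by
    intro w hw
    rw [hP, Finset.sum_congr rfl (g := fun _ => w) fun r _ => by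
      rw [hP0U _ (hU _ _ hw), ← Module.End.mul_apply, ← map_mul, mul_inv_cancel, map_one,
        Module.End.one_apply], Finset.sum_const, Finset.card_univ, ← Nat.cast_smul_eq_nsmul K,
      ← Nat.card_eq_fintype_card, smul_smul, inv_mul_cancel₀ hR, one_smul]
  have hPmem : ∀ w, P w ∈ U := fun w => by
    rw [hP]
    exact Submodule.smul_mem _ _ (Submodule.sum_mem _ fun r _ => hU _ _ (hP0 _))
  refine ⟨LinearMap.ker P, fun r w hw => ?_, ?_, ?_⟩
  · rw [LinearMap.mem_ker] at hw ⊢
    rw [hcomm, hw, map_zero]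
  · rw [Submodule.disjoint_def]
    intro w hw hw'
    rw [← hPU w hw]
    exact hw'
  · rw [codisjoint_iff, eq_top_iff]
    intro w _
    exact Submodule.mem_sup.2 ⟨P w, hPmem w, w - P w,
      by rw [LinearMap.mem_ker, map_sub, hPU _ (hPmem w), sub_self], by abel⟩

/-- An element acting nontrivially does so on some irreducible subspace. -/
theorem exists_irreducible_moved [FiniteDimensional K W] (ρ : Representation K R W)
    (hR : (Nat.card R : K) ≠ 0) {c : R} (hc : ρ c ≠ 1) :
    ∃ U : Submodule K W, (∀ r, ∀ w ∈ U, ρ r w ∈ U) ∧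
      (∀ U' ≤ U, (∀ r, ∀ w ∈ U', ρ r w ∈ U') → U' = ⊥ ∨ U' = U) ∧ ∃ u ∈ U, ρ c u ≠ u := by
  by_contra hno
  push Not at hno
  -- every invariant subspace is fixed pointwise by `c`
  have key : ∀ d, ∀ U : Submodule K W, Module.finrank K U ≤ d → (∀ r, ∀ w ∈ U, ρ r w ∈ U) →
      ∀ u ∈ U, ρ c u = u := by
    intro d
    induction d with
    | zero =>
      intro U hd _ u hu
      rw [Submodule.finrank_eq_zero.1 (Nat.le_zero.1 hd), Submodule.mem_bot] at hu
      simp [hu]
    | succ d ih =>
      intro U hd hU u hu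
      by_cases hirr : ∀ U' ≤ U, (∀ r, ∀ w ∈ U', ρ r w ∈ U') → U' = ⊥ ∨ U' = U
      · exact hno U hU hirr u hu
      push Not at hirr
      obtain ⟨U', hU'le, hU', hU'0, hU'U⟩ := hirr
      obtain ⟨C, hC, hcompl⟩ := exists_invariant_compl ρ hR U' hU'
      have h1 : Module.finrank K U' < Module.finrank K U :=
        Submodule.finrank_lt_finrank_of_lt (lt_of_le_of_ne hU'le hU'U)
      have h2 : Module.finrank K (C ⊓ U : Submodule K W) < Module.finrank K U := by
        refine Submodule.finrank_lt_finrank_of_lt (lt_of_le_of_ne inf_le_right fun h => hU'0 ?_)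
        rw [eq_bot_iff]
        intro w hw
        have : w ∈ C := (inf_eq_right.1 h) (hU'le hw)
        exact (Submodule.mem_bot K).2 (Submodule.disjoint_def.1 hcompl.disjoint w hw this)
      obtain ⟨a, ha, b, hb, rfl⟩ :=
        Submodule.mem_sup.1 (hcompl.codisjoint.eq_top ▸ Submodule.mem_top : u ∈ U' ⊔ C)
      rw [map_add, ih U' (by omega) hU' a ha,
        ih (C ⊓ U) (by omega) (fun r w hw => ⟨hC r w hw.1, hU r w hw.2⟩) b
          ⟨hb, by simpa using sub_mem hu (hU'le ha)⟩]
  exact hc (LinearMap.ext fun w => key _ ⊤ le_rfl (fun _ _ _ => trivial) w trivial)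

/-- The twirl of an irreducible `π` kills the translates by operators twisting `π` to a non-isomorphic
representation. -/
theorem twirl_translate_eq_zero {U : Type*} [AddCommGroup U] [Module K U] [FiniteDimensional K U]
    [Fintype R] (π : Representation K R U) (ρ : Representation K R W)
    (hirr : ∀ U' : Submodule K U, (∀ r, U'.map (π r) ≤ U') → U' = ⊥ ∨ U' = ⊤)
    (g : U →ₗ[K] W) (hg : ∀ r u, g (π r u) = ρ r (g u)) (M : W →ₗ[K] W) (τ : MulAut R)
    (hM : ∀ r w, ρ r (M w) = M (ρ (τ r) w))
    (hno : ∀ T : Module.End K U, IsUnit T → ∃ a, T * π a ≠ π (τ a) * T) (u : U) :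
    ∑ r : R, LinearMap.trace K U (π r⁻¹) • ρ r (M (g u)) = 0 := by
  have hzero : ∀ (φ : Module.Dual K U) (v : U),
      ∑ r : R, φ (π r⁻¹ v) • π (τ r) u = 0 := by
    intro φ v
    let h : Module.End K U := ∑ r : R, (φ ∘ₗ π r⁻¹).smulRight (π (τ r) u)
    have hh : ∀ z, h z = ∑ r : R, φ (π r⁻¹ z) • π (τ r) u := fun z => by
      simp [h, LinearMap.sum_apply]
    have hint : ∀ a, h * π a = π (τ a) * h := by
      intro a
      ext z
      rw [Module.End.mul_apply, Module.End.mul_apply, hh, hh, map_sum]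
      refine (Fintype.sum_equiv (Equiv.mulLeft a) _ _ fun r => ?_).symm
      rw [map_smul, Equiv.coe_mulLeft, mul_inv_rev, map_mul π, Module.End.mul_apply,
        ← Module.End.mul_apply (π a⁻¹), ← map_mul π, inv_mul_cancel, map_one π, Module.End.one_apply,
        map_mul τ, map_mul π, Module.End.mul_apply]
    rw [← hh]
    rcases hirr (LinearMap.ker h) (fun a => by
        rintro _ ⟨z, hz, rfl⟩
        rw [LinearMap.mem_ker, ← Module.End.mul_apply, hint, Module.End.mul_apply,
          LinearMap.mem_ker.1 hz, map_zero]) with hk | hk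
    · exfalso
      have hu : IsUnit h := (LinearMap.isUnit_iff_ker_eq_bot h).2 hk
      obtain ⟨a, ha⟩ := hno h hu
      exact ha (hint a)
    · exact LinearMap.mem_ker.1 (hk ▸ Submodule.mem_top)
  let b := Module.finBasis K U
  have htr : ∀ r : R, LinearMap.trace K U (π r) = ∑ i, b.coord i (π r (b i)) := by
    intro r
    have : π r = ∑ i, (b.coord i).smulRight (π r (b i)) := LinearMap.ext fun v => by
      simp only [LinearMap.sum_apply, LinearMap.smulRight_apply, Module.Basis.coord_apply,
        ← map_smul, ← map_sum, b.sum_repr]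
    conv_lhs => rw [this]
    rw [map_sum]
    exact Finset.sum_congr rfl fun i _ => trace_smulRight_eq _ _
  have hmove : ∀ r, ρ r (M (g u)) = M (g (π (τ r) u)) := fun r => by rw [hM, hg]
  have hsum : ∑ r : R, LinearMap.trace K U (π r⁻¹) • π (τ r) u = 0 := by
    rw [Finset.sum_congr rfl fun r _ => by rw [htr r⁻¹, Finset.sum_smul], Finset.sum_comm]
    exact Finset.sum_eq_zero fun i _ => hzero _ _
  have h0 := congrArg (fun v => M (g v)) hsum
  simp only [map_sum, map_smul, map_zero] at h0
  simp only [hmove]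
  exact h0

end Cfsg.Agent.HallHigmanCritical
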